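import Groth.Agent.AlmostBlow.Basic
import Groth.Agent.AICCover.Extend
import Groth.Agent.BlowUpLib.Cartier
import Groth.Prelude.Def_W4c6modpairsegaMP

/-!
# Finite surjective extensions from the interior of a modulus pair
-/

set_option backward.isDefEq.respectTransparency false
set_option backward.isDefEq.respectTransparency.types false
set_option linter.style.haveILetI false
set_option autoImplicit false

universe u

open CategoryTheory AlgebraicGeometry Limits

namespace Groth.Agent.MPExtend

theorem interior_eq_awayFrom {X : Scheme.{u}} (I : X.IdealSheafData) : ModPair.interior I = HTop.awayFrom I := rfl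

theorem comap_eq_top_of_range_subset {X T : Scheme.{u}} {I : X.IdealSheafData} (h : T ⟶ X)
    (hh : ∀ x, h x ∈ HTop.awayFrom I) : I.comap h = ⊤ := by
  rw [← Scheme.IdealSheafData.support_eq_bot_iff, eq_bot_iff]
  intro x hx
  rw [Scheme.IdealSheafData.support_comap] at hx
  exact hh x hx

theorem exists_extension {S : Scheme.{u}} [CompactSpace S] [QuasiSeparatedSpace S] (I : S.IdealSheafData)
    (hI : BlowUp.IsEffCartierIdeal I) {T₀ : Scheme.{u}} (t₀ : T₀ ⟶ (ModPair.interior I : Scheme.{u}))
    [IsFinite t₀] [Surjective t₀] :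
    ∃ (T : Scheme.{u}) (t : T ⟶ S) (j : T₀ ⟶ T), IsFinite t ∧ Surjective t ∧
      BlowUp.IsEffCartierIdeal (I.comap t) ∧ IsOpenImmersion j ∧
      Set.range j.base = t.base ⁻¹' (ModPair.interior I : Set S) ∧ j ≫ t = t₀ ≫ (ModPair.interior I).ι := by
  have hlp : HTop.IsLocPrincipal I := fun x => by
    obtain ⟨U, hxU, f, hf⟩ := hI x
    exact ⟨U, hxU, f, hf.2⟩
  haveI := AlmostBlow.quasiCompact_awayFrom_ι hlp
  have hO : IsCompact ((ModPair.interior I : S.Opens) : Set S) := by
    haveI : CompactSpace ↥(HTop.awayFrom I : Scheme.{u}) := QuasiCompact.compactSpace_of_compactSpace (HTop.awayFrom I).ι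
    have h := isCompact_range (HTop.awayFrom I).ι.continuous
    rwa [Scheme.Opens.range_ι] at h
  obtain ⟨Z, π, i, hpb, hπs, hπf, -⟩ := AICCover.exists_extend (ModPair.interior I) hO t₀
  haveI := hπs
  haveI := hπf
  haveI : IsOpenImmersion i := MorphismProperty.of_isPullback hpb.flip inferInstance
  have hrange : Set.range i = π ⁻¹' (ModPair.interior I : Set S) := by
    refine subset_antisymm ?_ fun z hz => ?_
    · rintro _ ⟨y, rfl⟩
      show π (i y) ∈ (ModPair.interior I : Set S)
      rw [← Scheme.Hom.comp_apply, hpb.w]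
      exact (t₀ y).2
    · obtain ⟨y, hy, -⟩ := Scheme.exists_preimage_of_isPullback hpb z ⟨π z, hz⟩ rfl
      exact ⟨y, hy⟩
  have hci : BlowUp.IsEffCartierIdeal ((I.comap π).comap i) := by
    rw [comap_eq_top_of_range_subset i fun y => by
      rw [AlmostBlow.awayFrom_comap]
      show π (i y) ∈ (HTop.awayFrom I : Set S)
      have : i y ∈ Set.range i := ⟨y, rfl⟩
      rw [hrange] at this
      exact this]
    exact BlowUpLib.cartier_top
  obtain ⟨j, hj⟩ := AlmostBlow.exists_lift i hci
  have hlp' := AlmostBlow.isLocPrincipal_comap hlp π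
  let ι := (HTop.supportedOn (I.comap π)).subschemeι
  haveI hjo : IsOpenImmersion j := by
    have hsq : IsPullback j (𝟙 T₀) ι i := by
      refine ⟨⟨by rw [hj, Category.id_comp]⟩, ⟨PullbackCone.IsLimit.mk _ (fun c => c.snd) (fun c => ?_)
        (fun c => Category.comp_id _) (fun c m _ h2 => by rw [← h2]; exact (Category.comp_id _).symm)⟩⟩
      rw [← cancel_mono ι, Category.assoc, hj, ← c.condition]
    exact MorphismProperty.of_isPullback hsq.flip ‹IsOpenImmersion i›
  refine ⟨_, ι ≫ π, j, inferInstance, ?_, ?_, hjo, ?_, ?_⟩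
  · refine ⟨fun s => ?_⟩
    have hcl : IsClosed (Set.range (ι ≫ π)) := (ι ≫ π).isClosedMap.isClosed_range
    have hsub : ((ModPair.interior I : S.Opens) : Set S) ⊆ Set.range (ι ≫ π) := fun u hu => by
      obtain ⟨y, hy⟩ := t₀.surjective ⟨u, hu⟩
      refine ⟨j y, ?_⟩
      rw [← Scheme.Hom.comp_apply, reassoc_of% hj, hpb.w, Scheme.Hom.comp_apply, hy]
      rfl
    have hd : closure ((ModPair.interior I : S.Opens) : Set S) = Set.univ := by
      have h := (HTop.awayFrom I).ι.support_ker
      rw [show (HTop.awayFrom I).ι.ker = ⊥ from AlmostBlow.supportedOn_eq_bot hI,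
        Scheme.IdealSheafData.support_bot] at h
      have h' : closure (Set.range (HTop.awayFrom I).ι) = Set.univ := h.symm
      rwa [Scheme.Opens.range_ι] at h'
    exact hcl.closure_subset_iff.2 hsub (hd ▸ Set.mem_univ s)
  · rw [Scheme.IdealSheafData.comap_comp]
    exact AlmostBlow.cartier_comap_subschemeι hlp'
  · refine subset_antisymm ?_ fun z hz => ?_
    · rintro _ ⟨y, rfl⟩
      show π (ι (j y)) ∈ (ModPair.interior I : Set S)
      have : i y ∈ Set.range i := ⟨y, rfl⟩
      rw [hrange] at this
      rwa [show ι (j y) = i y by rw [← Scheme.Hom.comp_apply, hj]]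
    · have : ι z ∈ Set.range i := by rw [hrange]; exact hz
      obtain ⟨y, hy⟩ := this
      refine ⟨y, ι.isClosedEmbedding.injective ?_⟩
      show ι (j y) = ι z
      rw [← Scheme.Hom.comp_apply, hj, hy]
  · rw [reassoc_of% hj, hpb.w]

end Groth.Agent.MPExtend
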